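import Mathlib.GroupTheory.Commutator.Basic
import Mathlib.GroupTheory.QuotientGroup.Basic
import Mathlib.GroupTheory.Nilpotent

/-!
Commutator subgroups of joins and the three subgroup lemma modulo a normal subgroup.
-/

set_option autoImplicit false

namespace CfsgLib.SeriesComm

variable {G : Type*} [Group G]

/-- `⁅A, B⁆ ≤ X` read in the quotient by `X`. -/
theorem commutator_le_iff_map {A B X : Subgroup G} [X.Normal] :
    ⁅A, B⁆ ≤ X ↔
      ⁅A.map (QuotientGroup.mk' X), B.map (QuotientGroup.mk' X)⁆ = ⊥ := by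
  rw [← Subgroup.map_commutator, Subgroup.map_eq_bot_iff, QuotientGroup.ker_mk']

/-- Commutators with a join. -/
theorem sup_commutator_le {A B C X : Subgroup G} [X.Normal] (hA : ⁅A, C⁆ ≤ X) (hB : ⁅B, C⁆ ≤ X) :
    ⁅A ⊔ B, C⁆ ≤ X := by
  rw [commutator_le_iff_map, Subgroup.commutator_eq_bot_iff_le_centralizer] at hA hB ⊢
  rw [Subgroup.map_sup]
  exact sup_le hA hB

/-- Commutators with an indexed join. -/
theorem iSup_commutator_le {ι : Sort*} {A : ι → Subgroup G} {C X : Subgroup G} [X.Normal]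
    (hA : ∀ i, ⁅A i, C⁆ ≤ X) : ⁅⨆ i, A i, C⁆ ≤ X := by
  rw [commutator_le_iff_map, Subgroup.commutator_eq_bot_iff_le_centralizer, Subgroup.map_iSup]
  refine iSup_le fun i => ?_
  have := hA i
  rwa [commutator_le_iff_map, Subgroup.commutator_eq_bot_iff_le_centralizer] at this

/-- The three subgroup lemma modulo a normal subgroup. -/
theorem rotate_le {A B C X : Subgroup G} [X.Normal] (h1 : ⁅⁅B, C⁆, A⁆ ≤ X)
    (h2 : ⁅⁅C, A⁆, B⁆ ≤ X) : ⁅⁅A, B⁆, C⁆ ≤ X := by
  rw [commutator_le_iff_map, Subgroup.map_commutator] at h1 h2 ⊢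
  exact Subgroup.commutator_commutator_eq_bot_of_rotate h1 h2

/-- Lower central series of a normal subgroup are normal. -/
theorem lowerCentralSeries_normal (H : Subgroup G) [hH : H.Normal] (n : ℕ) :
    (H.lowerCentralSeries n).Normal := by
  induction n with
  | zero => exact hH
  | succ n ih =>
    haveI := ih
    rw [Subgroup.lowerCentralSeries_succ]
    infer_instance

end CfsgLib.SeriesComm
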